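import Mathlib

/-!
# Regular quadratic forms of even rank split étale locally
-/

universe u

namespace Groth.Agent.QSplit

noncomputable section

open Matrix

variable {ι : Type*} [Fintype ι]

/-- The bilinear form of a square matrix. -/
def Bf {R : Type*} [CommRing R] (C : Matrix ι ι R) (x y : ι → R) : R :=
  ∑ i, ∑ j, C i j * x i * y j

/-- The quadratic form of a square matrix. -/
def Qf {R : Type*} [CommRing R] (C : Matrix ι ι R) (x : ι → R) : R := Bf C x x

/-- The polar of the quadratic form of a square matrix. -/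
def Pf {R : Type*} [CommRing R] (C : Matrix ι ι R) (x y : ι → R) : R := Bf C x y + Bf C y x

section Basic

variable {R : Type*} [CommRing R] (C : Matrix ι ι R) (x y z : ι → R) (r : R)

theorem Bf_add_left : Bf C (x + y) z = Bf C x z + Bf C y z := by
  simp [Bf, mul_add, add_mul, Finset.sum_add_distrib]

theorem Bf_add_right : Bf C z (x + y) = Bf C z x + Bf C z y := by
  simp [Bf, mul_add, Finset.sum_add_distrib]

theorem Bf_smul_left : Bf C (r • x) y = r * Bf C x y := by
  simp only [Bf, Pi.smul_apply, smul_eq_mul, Finset.mul_sum]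
  congr! 2
  ring

theorem Bf_smul_right : Bf C x (r • y) = r * Bf C x y := by
  simp only [Bf, Pi.smul_apply, smul_eq_mul, Finset.mul_sum]
  congr! 2
  ring

theorem Pf_comm : Pf C x y = Pf C y x := add_comm _ _

theorem Pf_add_left : Pf C (x + y) z = Pf C x z + Pf C y z := by
  simp [Pf, Bf_add_left, Bf_add_right]; abel

theorem Pf_smul_left : Pf C (r • x) y = r * Pf C x y := by
  simp [Pf, Bf_smul_left, Bf_smul_right]; ring

theorem Pf_add_right : Pf C z (x + y) = Pf C z x + Pf C z y := by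
  rw [Pf_comm, Pf_add_left, Pf_comm C x, Pf_comm C y]

theorem Pf_smul_right : Pf C x (r • y) = r * Pf C x y := by
  rw [Pf_comm, Pf_smul_left, Pf_comm]

theorem Pf_self : Pf C x x = 2 * Qf C x := by simp [Pf, Qf, two_mul]

theorem Qf_add : Qf C (x + y) = Qf C x + Qf C y + Pf C x y := by
  simp [Qf, Pf, Bf_add_left, Bf_add_right]; abel

theorem Qf_smul : Qf C (r • x) = r * r * Qf C x := by
  simp [Qf, Bf_smul_left, Bf_smul_right, mul_assoc]

theorem Pf_zero_left : Pf C 0 y = 0 := by simp [Pf, Bf]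

theorem Pf_sum_right {κ : Type*} (s : Finset κ) (f : κ → ι → R) :
    Pf C x (∑ l ∈ s, f l) = ∑ l ∈ s, Pf C x (f l) := by
  classical
  induction s using Finset.induction_on with
  | empty => rw [Finset.sum_empty, Finset.sum_empty, Pf_comm, Pf_zero_left]
  | insert a s ha ih => rw [Finset.sum_insert ha, Finset.sum_insert ha, Pf_add_right, ih]

theorem Bf_map {S : Type*} [CommRing S] (σ : R →+* S) :
    Bf (C.map σ) (σ ∘ x) (σ ∘ y) = σ (Bf C x y) := by
  simp [Bf, map_sum, map_mul]

theorem Qf_map {S : Type*} [CommRing S] (σ : R →+* S) :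
    Qf (C.map σ) (σ ∘ x) = σ (Qf C x) := Bf_map C x x σ

theorem Pf_map {S : Type*} [CommRing S] (σ : R →+* S) :
    Pf (C.map σ) (σ ∘ x) (σ ∘ y) = σ (Pf C x y) := by
  simp [Pf, Bf_map]

theorem Bf_single [DecidableEq ι] (i : ι) :
    Bf C (Pi.single i 1) y = ∑ j, C i j * y j ∧ Bf C y (Pi.single i 1) = ∑ j, C j i * y j := by
  simp [Bf, Pi.single_apply]

theorem Pf_single [DecidableEq ι] (i : ι) :
    Pf C (Pi.single i 1) y = ((C + Cᵀ) *ᵥ y) i := by
  simp [Pf, (Bf_single C y i).1, (Bf_single C y i).2, Matrix.mulVec, dotProduct, add_mul, Finset.sum_add_distrib]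

end Basic

/-- A system of `k` mutually orthogonal hyperbolic pairs. -/
structure Sys {R : Type*} [CommRing R] (C : Matrix ι ι R) (k : ℕ) where
  /-- first vectors -/
  v : Fin k → ι → R
  /-- second vectors -/
  w : Fin k → ι → R
  qv : ∀ i, Qf C (v i) = 0
  qw : ∀ i, Qf C (w i) = 0
  pvv : ∀ i j, Pf C (v i) (v j) = 0
  pww : ∀ i j, Pf C (w i) (w j) = 0
  pvw : ∀ i j, Pf C (v i) (w j) = if i = j then 1 else 0

/-- Transport of a system along a ring map. -/
def Sys.map {R S : Type*} [CommRing R] [CommRing S] {C : Matrix ι ι R} {k : ℕ} (s : Sys C k)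
    (σ : R →+* S) : Sys (C.map σ) k where
  v i := σ ∘ s.v i
  w i := σ ∘ s.w i
  qv i := by rw [Qf_map, s.qv, map_zero]
  qw i := by rw [Qf_map, s.qw, map_zero]
  pvv i j := by rw [Pf_map, s.pvv, map_zero]
  pww i j := by rw [Pf_map, s.pww, map_zero]
  pvw i j := by rw [Pf_map, s.pvw]; split_ifs <;> simp

/-- Projection onto the orthogonal of a system. -/
def Sys.proj {R : Type*} [CommRing R] {C : Matrix ι ι R} {k : ℕ} (s : Sys C k) (x : ι → R) : ι → R :=
  x + (-1 : R) • ∑ i, (Pf C (s.w i) x • s.v i + Pf C (s.v i) x • s.w i)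

/-- Being orthogonal to a system. -/
def Sys.Orth {R : Type*} [CommRing R] {C : Matrix ι ι R} {k : ℕ} (s : Sys C k) (x : ι → R) : Prop :=
  ∀ i, Pf C (s.v i) x = 0 ∧ Pf C (s.w i) x = 0

section Proj

variable {R : Type*} [CommRing R] {C : Matrix ι ι R} {k : ℕ} (s : Sys C k)

theorem Sys.orth_proj (x : ι → R) : s.Orth (s.proj x) := by
  intro l
  constructor
  · simp only [Sys.proj, Pf_add_right, Pf_smul_right, Pf_sum_right, s.pvv, s.pvw]
    simp
  · simp only [Sys.proj, Pf_add_right, Pf_smul_right, Pf_sum_right, s.pww, Pf_comm C (s.w l) (s.v _), s.pvw]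
    simp

theorem Sys.proj_eq_self {x : ι → R} (h : s.Orth x) : s.proj x = x := by
  simp [Sys.proj, fun i => (h i).1, fun i => (h i).2]

theorem Sys.map_proj {S : Type*} [CommRing S] (σ : R →+* S) (x : ι → R) :
    σ ∘ s.proj x = (s.map σ).proj (σ ∘ x) := by
  funext i
  simp [Sys.proj, Sys.map, Pf_map, Finset.sum_apply]

theorem Sys.orth_smul {x : ι → R} (h : s.Orth x) (r : R) : s.Orth (r • x) := fun i => by
  simp [Pf_smul_right, (h i).1, (h i).2]

theorem Sys.orth_add {x y : ι → R} (h : s.Orth x) (h' : s.Orth y) : s.Orth (x + y) := fun i => by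
  simp [Pf_add_right, (h i).1, (h i).2, (h' i).1, (h' i).2]

theorem Sys.eq_proj_add (x : ι → R) :
    x = s.proj x + ∑ i, (Pf C (s.w i) x • s.v i + Pf C (s.v i) x • s.w i) := by
  simp [Sys.proj]

end Proj

/-- Adding a hyperbolic pair orthogonal to a system. -/
def Sys.snoc {R : Type*} [CommRing R] {C : Matrix ι ι R} {k : ℕ} (s : Sys C k) {x y : ι → R}
    (hxo : s.Orth x) (hyo : s.Orth y) (hx : Qf C x = 0) (hy : Qf C y = 0) (hxy : Pf C x y = 1) :
    Sys C (k + 1) where
  v := Fin.snoc s.v x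
  w := Fin.snoc s.w y
  qv := Fin.lastCases (by simpa using hx) fun i => by simpa using s.qv i
  qw := Fin.lastCases (by simpa using hy) fun i => by simpa using s.qw i
  pvv := by
    refine Fin.lastCases (Fin.lastCases ?_ fun j => ?_) fun i => Fin.lastCases ?_ fun j => ?_
    · simp [Pf_self, hx]
    · simpa [Pf_comm C x] using (hxo j).1
    · simpa using (hxo i).1
    · simpa using s.pvv i j
  pww := by
    refine Fin.lastCases (Fin.lastCases ?_ fun j => ?_) fun i => Fin.lastCases ?_ fun j => ?_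
    · simp [Pf_self, hy]
    · simpa [Pf_comm C y] using (hyo j).2
    · simpa using (hyo i).2
    · simpa using s.pww i j
  pvw := by
    refine Fin.lastCases (Fin.lastCases ?_ fun j => ?_) fun i => Fin.lastCases ?_ fun j => ?_
    · simpa using hxy
    · simpa [Pf_comm C x, (Fin.castSucc_lt_last j).ne'] using (hxo j).2
    · simpa [(Fin.castSucc_lt_last i).ne] using (hyo i).1
    · simpa using s.pvw i j

/-- Over a field, a non maximal system has an orthogonal nondegenerate plane. -/
theorem exists_plane {K : Type*} [Field K] [DecidableEq ι] {C : Matrix ι ι K} {k : ℕ}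
    (hC : (C + Cᵀ).det ≠ 0) (s : Sys C k) (hk : 2 * k + 1 < Fintype.card ι) :
    ∃ u z, s.Orth u ∧ s.Orth z ∧
      Qf C u * (Pf C u z * Pf C u z - 4 * Qf C u * Qf C z) ≠ 0 := by
  have hnd : ∀ z, (∀ x, Pf C x z = 0) → z = 0 := fun z h =>
    Matrix.eq_zero_of_mulVec_eq_zero hC (funext fun i => by
      rw [← Pf_single]; exact h _)
  have hnd' : ∀ z, s.Orth z → (∀ x, s.Orth x → Pf C x z = 0) → z = 0 := fun z hz h => hnd z fun x => by
    rw [s.eq_proj_add x, Pf_add_left, h _ (s.orth_proj x), zero_add, Pf_comm, Pf_sum_right]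
    refine Finset.sum_eq_zero fun i _ => ?_
    rw [Pf_add_right, Pf_smul_right, Pf_smul_right, Pf_comm C z, Pf_comm C z, (hz i).1, (hz i).2]
    simp
  have hspan : ∀ u : ι → K, ∃ y, s.Orth y ∧ y ∉ Submodule.span K {u} := by
    intro u
    by_contra hne
    push Not at hne
    let T : (Fin k ⊕ Fin k ⊕ Fin 1) → ι → K := Sum.elim s.v (Sum.elim s.w fun _ => u)
    have htop : (⊤ : Submodule K (ι → K)) ≤ Submodule.span K (Set.range T) := by
      intro x _
      rw [s.eq_proj_add x]
      refine Submodule.add_mem _ ?_ (Submodule.sum_mem _ fun i _ => Submodule.add_mem _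
        (Submodule.smul_mem _ _ (Submodule.subset_span ⟨.inl i, rfl⟩))
        (Submodule.smul_mem _ _ (Submodule.subset_span ⟨.inr (.inl i), rfl⟩)))
      refine Submodule.span_mono ?_ (hne _ (s.orth_proj x))
      rintro _ rfl
      exact ⟨.inr (.inr 0), rfl⟩
    have h1 := finrank_range_le_card (R := K) T
    rw [Set.finrank, top_le_iff.mp htop, finrank_top, Module.finrank_pi] at h1
    simp at h1
    omega
  obtain ⟨x, hx, hx0⟩ := hspan 0
  obtain ⟨y, hy, hxy⟩ : ∃ y, s.Orth y ∧ Pf C y x ≠ 0 := by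
    by_contra hne
    push Not at hne
    exact hx0 (by rw [hnd' x hx hne]; exact Submodule.zero_mem _)
  suffices ∃ u z, s.Orth u ∧ s.Orth z ∧ Pf C u z * Pf C u z - 4 * Qf C u * Qf C z ≠ 0 by
    obtain ⟨u, z, hu, hz, hd⟩ := this
    by_cases h1 : Qf C u = 0
    · by_cases h2 : Qf C z = 0
      · have hb : Pf C u z ≠ 0 := fun e => hd (by rw [e, h1, h2]; ring)
        refine ⟨u + z, z, s.orth_add hu hz, hz, ?_⟩
        rw [Qf_add, Pf_add_left, Pf_self, h1, h2]
        simpa using hb
      · refine ⟨z, u, hz, hu, mul_ne_zero h2 ?_⟩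
        rw [Pf_comm C z u]
        convert hd using 1
        ring
    · exact ⟨u, z, hu, hz, mul_ne_zero h1 hd⟩
  by_cases h2 : (2 : K) = 0
  · refine ⟨y, x, hy, hx, ?_⟩
    rw [show (4 : K) = 2 * 2 by norm_num, h2]
    simpa using hxy
  by_contra hne
  push Not at hne
  obtain ⟨u, hu, hQu⟩ : ∃ u, s.Orth u ∧ Qf C u ≠ 0 := by
    by_contra hq
    push Not at hq
    have := hq _ (s.orth_add hy hx)
    rw [Qf_add, hq y hy, hq x hx, zero_add, zero_add] at this
    exact hxy this
  obtain ⟨t, ht, htu⟩ := hspan u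
  let e := (2 * Qf C u) • t + (-Pf C u t) • u
  have he : s.Orth e := s.orth_add (s.orth_smul ht _) (s.orth_smul hu _)
  have hue : Pf C u e = 0 := by
    simp only [e, Pf_add_right, Pf_smul_right, Pf_self]; ring
  have hQe : Qf C e = 0 := by
    have := hne u e hu he
    rw [hue, zero_mul, zero_sub, neg_eq_zero] at this
    have h4 : (4 : K) ≠ 0 := by rw [show (4 : K) = 2 * 2 by norm_num]; exact mul_ne_zero h2 h2
    simpa [h4, hQu] using this
  have he0 : e = 0 := hnd' e he fun a ha => by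
    have := hne a e ha he
    rw [hQe, mul_zero, sub_zero] at this
    exact mul_self_eq_zero.mp this
  refine htu (Submodule.mem_span_singleton.mpr ⟨(2 * Qf C u)⁻¹ * Pf C u t, ?_⟩)
  have h' : (2 * Qf C u) • t = Pf C u t • u := by
    rw [← sub_eq_zero, sub_eq_add_neg, ← neg_smul]; exact he0
  rw [mul_smul, ← h', smul_smul, inv_mul_cancel₀ (mul_ne_zero h2 hQu), one_smul]

theorem Qf_sum_of_orth {R : Type*} [CommRing R] (C : Matrix ι ι R) {κ : Type*} (T : Finset κ) (f : κ → ι → R)
    (c : κ → R) (hq : ∀ l, Qf C (f l) = 0) (hp : ∀ l l', Pf C (f l) (f l') = 0) :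
    Qf C (∑ l ∈ T, c l • f l) = 0 := by
  classical
  induction T using Finset.induction_on with
  | empty => simp [Qf, Bf]
  | insert a T ha ih =>
    rw [Finset.sum_insert ha, Qf_add, Qf_smul, hq, ih, Pf_smul_left, Pf_sum_right]
    simp [Pf_smul_right, hp]

/-- A full system gives a matrix transforming the form into the split form. -/
theorem Sys.exists_matrix {R : Type*} [CommRing R] {m : ℕ} {C : Matrix (Fin m ⊕ Fin m) (Fin m ⊕ Fin m) R}
    (s : Sys C m) :
    ∃ g : Matrix (Fin m ⊕ Fin m) (Fin m ⊕ Fin m) R, IsUnit g.det ∧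
      ∀ x, Qf C (g *ᵥ x) = ∑ j, x (Sum.inl j) * x (Sum.inr j) := by
  let g : Matrix (Fin m ⊕ Fin m) (Fin m ⊕ Fin m) R := Matrix.of fun i c => Sum.elim s.v s.w c i
  refine ⟨g, ?_, fun x => ?_⟩
  · have h : gᵀ * (C + Cᵀ) * g = Matrix.fromBlocks 0 1 1 0 := by
      ext c d
      have e : (gᵀ * (C + Cᵀ) * g) c d = Pf C (Sum.elim s.v s.w c) (Sum.elim s.v s.w d) := by
        rw [Matrix.mul_assoc]
        simp only [Pf, Bf, g, Matrix.mul_apply, Matrix.transpose_apply, Matrix.of_apply, Matrix.add_apply]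
        rw [Finset.sum_comm (γ := Fin m ⊕ Fin m) (f := fun i j => C i j * Sum.elim s.v s.w d i * Sum.elim s.v s.w c j),
          ← Finset.sum_add_distrib]
        refine Finset.sum_congr rfl fun i _ => ?_
        rw [Finset.mul_sum, ← Finset.sum_add_distrib]
        refine Finset.sum_congr rfl fun j _ => ?_
        ring
      rw [e]
      rcases c with c | c <;> rcases d with d | d
      · simpa using s.pvv c d
      · simpa [Matrix.one_apply] using s.pvw c d
      · simpa [Matrix.one_apply, Pf_comm C (s.w c), eq_comm] using s.pvw d c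
      · simpa using s.pww c d
    have hH : Matrix.fromBlocks (0 : Matrix (Fin m) (Fin m) R) 1 1 0 *
        Matrix.fromBlocks (0 : Matrix (Fin m) (Fin m) R) (1 : Matrix (Fin m) (Fin m) R) (1 : Matrix (Fin m) (Fin m) R)
          (0 : Matrix (Fin m) (Fin m) R) = 1 := by
      simp [Matrix.fromBlocks_multiply, Matrix.fromBlocks_one]
    have hu : IsUnit (Matrix.fromBlocks (0 : Matrix (Fin m) (Fin m) R) 1 1 0).det :=
      Matrix.isUnit_det_of_left_inverse hH
    rw [← h, Matrix.det_mul] at hu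
    exact (IsUnit.mul_iff.mp hu).2
  · have e : g *ᵥ x = (∑ j, x (Sum.inl j) • s.v j) + ∑ j, x (Sum.inr j) • s.w j := by
      funext i
      simp [g, Matrix.mulVec, dotProduct, Fintype.sum_sum_type, mul_comm]
    rw [e, Qf_add, Qf_sum_of_orth C _ _ _ s.qv s.pvv, Qf_sum_of_orth C _ _ _ s.qw s.pww, zero_add, zero_add,
      Pf_sum_right]
    refine Finset.sum_congr rfl fun j _ => ?_
    rw [Pf_smul_right, Pf_comm, Pf_sum_right, Finset.sum_eq_single j]
    · rw [Pf_smul_right, Pf_comm, s.pvw, if_pos rfl, mul_one, mul_comm]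
    · intro l _ hl
      rw [Pf_smul_right, Pf_comm, s.pvw, if_neg hl, mul_zero]
    · simp

/-- A system over an étale algebra through which a geometric point factors. -/
def HasSys {A : Type u} [CommRing A] (C : Matrix ι ι A) {K : Type u} [Field K] (φ : A →+* K) (k : ℕ) : Prop :=
  ∃ (B : Type u) (_ : CommRing B) (_ : Algebra A B) (_ : Algebra.Etale A B) (ψ : B →+* K),
    ψ.comp (algebraMap A B) = φ ∧ Nonempty (Sys (C.map (algebraMap A B)) k)

theorem exists_extend [DecidableEq ι] {B : Type u} [CommRing B] (C : Matrix ι ι B)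
    (hC : IsUnit (C + Cᵀ).det) {k : ℕ} (s : Sys C k) (hk : 2 * k + 1 < Fintype.card ι)
    {K : Type u} [Field K] [IsAlgClosed K] (ψ : B →+* K) :
    HasSys C ψ (k + 1) := by
  classical
  let P := RingHom.ker ψ
  haveI : P.IsPrime := RingHom.ker_isPrime ψ
  let σ : B →+* P.ResidueField := algebraMap B P.ResidueField
  have hσC : ((C.map σ) + (C.map σ)ᵀ).det ≠ 0 := by
    have h : (C.map σ) + (C.map σ)ᵀ = (C + Cᵀ).map σ := by ext; simp
    rw [h, ← RingHom.mapMatrix_apply, ← RingHom.map_det]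
    exact (hC.map σ).ne_zero
  obtain ⟨u0, z0, hu0, hz0, hd0⟩ := exists_plane hσC (s.map σ) hk
  have hlift : ∀ a : ι → P.ResidueField, ∃ (c : P.ResidueField) (b : ι → B), c ≠ 0 ∧ c • a = σ ∘ b := by
    intro a
    obtain ⟨⟨c, hc⟩, h⟩ := IsLocalization.exist_integer_multiples_of_finite
      (nonZeroDivisors (B ⧸ P)) a
    choose b' hb' using h
    choose b hb using fun i => Ideal.Quotient.mk_surjective (b' i)
    refine ⟨algebraMap (B ⧸ P) P.ResidueField c, b, ?_, funext fun i => ?_⟩
    · exact (map_ne_zero_iff _ (IsFractionRing.injective (B ⧸ P) P.ResidueField)).mpr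
        (nonZeroDivisors.ne_zero hc)
    · show algebraMap (B ⧸ P) P.ResidueField c * a i = σ (b i)
      rw [← Algebra.smul_def, ← hb' i, ← hb i]
      rfl
  obtain ⟨cu, bu, hcu, hbu⟩ := hlift u0
  obtain ⟨cz, bz, hcz, hbz⟩ := hlift z0
  let uB := s.proj bu
  let zB := s.proj bz
  have huB : σ ∘ uB = cu • u0 := by
    rw [s.map_proj, ← hbu, (s.map σ).proj_eq_self ((s.map σ).orth_smul hu0 cu)]
  have hzB : σ ∘ zB = cz • z0 := by
    rw [s.map_proj, ← hbz, (s.map σ).proj_eq_self ((s.map σ).orth_smul hz0 cz)]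
  let d := Qf C uB * (Pf C uB zB * Pf C uB zB - 4 * Qf C uB * Qf C zB)
  have hd : σ d ≠ 0 := by
    simp only [d, map_mul, map_sub, map_ofNat, ← Qf_map, ← Pf_map, huB, hzB, Qf_smul, Pf_smul_left,
      Pf_smul_right]
    obtain ⟨hq, hdisc⟩ := mul_ne_zero_iff.mp hd0
    refine mul_ne_zero (mul_ne_zero (mul_ne_zero hcu hcu) hq) ?_
    have : cz * (cu * Pf (C.map σ) u0 z0) * (cz * (cu * Pf (C.map σ) u0 z0)) -
        4 * (cu * cu * Qf (C.map σ) u0) * (cz * cz * Qf (C.map σ) z0) =
        (cu * cz) * (cu * cz) * (Pf (C.map σ) u0 z0 * Pf (C.map σ) u0 z0 -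
          4 * Qf (C.map σ) u0 * Qf (C.map σ) z0) := by ring
    rw [this]
    exact mul_ne_zero (mul_ne_zero (mul_ne_zero hcu hcz) (mul_ne_zero hcu hcz)) hdisc
  have hψd : IsUnit (ψ d) := isUnit_iff_ne_zero.mpr fun h =>
    hd (Ideal.algebraMap_residueField_eq_zero.mpr h)
  let L := Localization.Away d
  let ψL : L →+* K := IsLocalization.Away.lift d hψd
  have hdL : IsUnit (algebraMap B L d) := IsLocalization.Away.algebraMap_isUnit d
  obtain ⟨hqu, hdu⟩ := IsUnit.mul_iff.mp (by simpa only [d, map_mul] using hdL)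
  obtain ⟨Qu, hQu⟩ := hqu
  let p : L := ↑Qu⁻¹ * algebraMap B L (Pf C uB zB)
  let c : L := ↑Qu⁻¹ * algebraMap B L (Qf C zB)
  let F : Polynomial L := Polynomial.X ^ 2 + (Polynomial.C p * Polynomial.X + Polynomial.C c)
  have hF : F.Monic := Polynomial.monic_X_pow_add
    (lt_of_le_of_lt Polynomial.degree_linear_le (by decide))
  have hDu : IsUnit (p * p - 4 * c) := by
    have : p * p - 4 * c = ((↑Qu⁻¹ : L) * ↑Qu⁻¹) *
        algebraMap B L (Pf C uB zB * Pf C uB zB - 4 * Qf C uB * Qf C zB) := by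
      simp only [p, c, map_sub, map_mul, map_ofNat, ← hQu]
      linear_combination (4 * (↑Qu⁻¹ : L) * algebraMap B L (Qf C zB)) * Qu.inv_mul
    rw [this]
    exact ((Qu⁻¹).isUnit.mul (Qu⁻¹).isUnit).mul hdu
  obtain ⟨D, hD⟩ := hDu
  let W : StandardEtalePair L :=
    { f := F
      monic_f := hF
      g := 1
      cond := by
        refine ⟨Polynomial.derivative F * Polynomial.C (↑D⁻¹ : L), -Polynomial.C (4 * (↑D⁻¹ : L)), 1, ?_⟩
        have h1 : Polynomial.C (p * p - 4 * c) * Polynomial.C (↑D⁻¹ : L) = 1 := by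
          rw [← map_mul, ← hD, Units.mul_inv, map_one]
        simp only [F, Polynomial.derivative_add, Polynomial.derivative_X_pow, Polynomial.derivative_mul,
          Polynomial.derivative_C, Polynomial.derivative_X, map_mul, map_sub, map_neg, map_ofNat, Nat.cast_ofNat]
          at h1 ⊢
        linear_combination h1 }
  letI : Algebra L K := ψL.toAlgebra
  haveI : Nontrivial L := ψL.domain_nontrivial
  obtain ⟨r, hr⟩ : ∃ r : K, Polynomial.aeval r F = 0 := by
    obtain ⟨r, hr⟩ := IsAlgClosed.exists_root (F.map ψL) (by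
      rw [hF.degree_map, Polynomial.degree_add_eq_left_of_degree_lt (by
        rw [Polynomial.degree_X_pow]
        exact lt_of_le_of_lt Polynomial.degree_linear_le (by decide)), Polynomial.degree_X_pow]
      decide)
    exact ⟨r, by rw [Polynomial.aeval_def, Polynomial.eval₂_eq_eval_map]; exact hr⟩
  let ψW : W.Ring →ₐ[L] K := W.lift r ⟨hr, by simp [W]⟩
  letI : Algebra B W.Ring := ((algebraMap L W.Ring).comp (algebraMap B L)).toAlgebra
  haveI : IsScalarTower B L W.Ring := IsScalarTower.of_algebraMap_eq fun _ => rfl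
  haveI : Algebra.Etale B L := Algebra.Etale.of_isLocalizationAway d
  haveI : Algebra.Etale B W.Ring := Algebra.Etale.comp B L W.Ring
  refine ⟨W.Ring, inferInstance, inferInstance, inferInstance, ψW.toRingHom, ?_, ?_⟩
  · ext x
    show ψW (algebraMap L W.Ring (algebraMap B L x)) = ψ x
    rw [ψW.commutes]
    exact IsLocalization.Away.lift_eq d hψd x
  let τ : L →+* W.Ring := algebraMap L W.Ring
  let ρ : B →+* W.Ring := algebraMap B W.Ring
  have hρ : ∀ x, τ (algebraMap B L x) = ρ x := fun x => rfl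
  let t : W.Ring := W.X
  have ht : t * t + (τ p * t + τ c) = 0 := by
    have := (StandardEtalePair.hasMap_X (P := W)).1
    simpa [W, F, sq] using this
  let s' := s.map ρ
  let u : ι → W.Ring := ρ ∘ uB
  let z : ι → W.Ring := ρ ∘ zB
  have hu : s'.Orth u := fun i => by
    simp only [s', u, Sys.map, Pf_map, (s.orth_proj bu i).1, (s.orth_proj bu i).2, uB, map_zero, and_self]
  have hz : s'.Orth z := fun i => by
    simp only [s', z, Sys.map, Pf_map, (s.orth_proj bz i).1, (s.orth_proj bz i).2, zB, map_zero, and_self]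
  let q : W.Ring := τ Qu
  let q' : W.Ring := τ ↑Qu⁻¹
  have hq : q * q' = 1 := by rw [← map_mul, Units.mul_inv, map_one]
  have hP : Pf (C.map ρ) u z = q * τ p := by
    rw [Pf_map, ← hρ]
    simp only [p, map_mul]
    linear_combination -(τ (algebraMap B L (Pf C uB zB))) * hq
  have hQz : Qf (C.map ρ) z = q * τ c := by
    rw [Qf_map, ← hρ]
    simp only [c, map_mul]
    linear_combination -(τ (algebraMap B L (Qf C zB))) * hq
  have hQu' : Qf (C.map ρ) u = q := by
    rw [Qf_map, ← hρ]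
    exact congrArg τ hQu.symm
  let x : ι → W.Ring := z + t • u
  let t' : W.Ring := -τ p - t
  let y0 : ι → W.Ring := z + t' • u
  have hx0 : Qf (C.map ρ) x = 0 := by
    simp only [x, Qf_add, Qf_smul, Pf_smul_right, Pf_comm (C.map ρ) z u, hP, hQu', hQz]
    linear_combination q * ht
  have hy0 : Qf (C.map ρ) y0 = 0 := by
    simp only [y0, t', Qf_add, Qf_smul, Pf_smul_right, Pf_comm (C.map ρ) z u, hP, hQu', hQz]
    linear_combination q * ht
  obtain ⟨e, he⟩ : IsUnit (Pf (C.map ρ) x y0) := by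
    have hval : Pf (C.map ρ) x y0 = -(q * τ (p * p - 4 * c)) := by
      simp only [x, y0, t', Pf_add_left, Pf_add_right, Pf_smul_left, Pf_smul_right, Pf_self, hQz, hQu',
        hP, Pf_comm (C.map ρ) z u, map_sub, map_mul, map_ofNat]
      linear_combination (-2 * q) * ht
    rw [hval, ← hD]
    exact ((Qu.isUnit.map τ).mul (D.isUnit.map τ)).neg
  let y : ι → W.Ring := (↑e⁻¹ : W.Ring) • y0
  have hxo : s'.Orth x := s'.orth_add hz (s'.orth_smul hu _)
  have hyo : s'.Orth y := s'.orth_smul (s'.orth_add hz (s'.orth_smul hu _)) _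
  have hy : Qf (C.map ρ) y = 0 := by rw [Qf_smul, hy0, mul_zero]
  have hxy : Pf (C.map ρ) x y = 1 := by rw [Pf_smul_right, ← he, Units.inv_mul]
  exact ⟨s'.snoc hxo hyo hx0 hy hxy⟩

theorem hasSys {A : Type u} [CommRing A] [DecidableEq ι] (C : Matrix ι ι A) (hC : IsUnit (C + Cᵀ).det)
    {K : Type u} [Field K] [IsAlgClosed K] (φ : A →+* K) :
    ∀ k : ℕ, 2 * k ≤ Fintype.card ι → HasSys C φ k
  | 0, _ => ⟨A, inferInstance, Algebra.id A, inferInstance, φ, rfl,
      ⟨⟨Fin.elim0, Fin.elim0, fun i => i.elim0, fun i => i.elim0, fun i => i.elim0, fun i => i.elim0,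
        fun i => i.elim0⟩⟩⟩
  | k + 1, hk => by
    obtain ⟨B, _, _, _, ψ, hψ, ⟨s⟩⟩ := hasSys C hC φ k (by omega)
    have hCB : IsUnit (C.map (algebraMap A B) + (C.map (algebraMap A B))ᵀ).det := by
      have h : C.map (algebraMap A B) + (C.map (algebraMap A B))ᵀ = (C + Cᵀ).map (algebraMap A B) := by
        ext; simp
      rw [h, ← RingHom.mapMatrix_apply, ← RingHom.map_det]
      exact hC.map _
    obtain ⟨B', _, _, _, ψ', hψ', ⟨s'⟩⟩ := exists_extend (C.map (algebraMap A B)) hCB s (by omega) ψ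
    letI : Algebra A B' := ((algebraMap B B').comp (algebraMap A B)).toAlgebra
    haveI : IsScalarTower A B B' := IsScalarTower.of_algebraMap_eq fun _ => rfl
    haveI : Algebra.Etale A B' := Algebra.Etale.comp A B B'
    refine ⟨B', inferInstance, inferInstance, inferInstance, ψ', ?_, ?_⟩
    · rw [← hψ, ← hψ']; rfl
    · rw [show C.map (algebraMap A B') = (C.map (algebraMap A B)).map (algebraMap B B') from rfl]
      exact ⟨s'⟩

/-- A regular form of rank `2 m` has étale locally a hyperbolic basis. -/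
theorem exists_cover {A : Type u} [CommRing A] [DecidableEq ι] (C : Matrix ι ι A) (hC : IsUnit (C + Cᵀ).det)
    (m : ℕ) (hm : 2 * m ≤ Fintype.card ι) :
    ∃ (n : ℕ) (B : Fin n → Type u) (_ : ∀ t, CommRing (B t)) (_ : ∀ t, Algebra A (B t)),
      (∀ t, Algebra.Etale A (B t)) ∧
      (∀ p : PrimeSpectrum A, ∃ (t : Fin n) (q : PrimeSpectrum (B t)),
        q.asIdeal.comap (algebraMap A (B t)) = p.asIdeal) ∧
      ∀ t, Nonempty (Sys (C.map (algebraMap A (B t))) m) := by
  classical
  have hp := fun p : PrimeSpectrum A =>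
    hasSys C hC ((algebraMap p.asIdeal.ResidueField (AlgebraicClosure p.asIdeal.ResidueField)).comp
      (algebraMap A p.asIdeal.ResidueField)) m hm
  choose B hB hA hE ψ hψ hs using hp
  let U : PrimeSpectrum A → Set (PrimeSpectrum A) := fun p =>
    Set.range (PrimeSpectrum.comap (algebraMap A (B p)))
  have hU : ∀ p, IsOpen (U p) := fun p =>
    (PrimeSpectrum.isOpenMap_comap_of_hasGoingDown_of_finitePresentation (R := A) (S := B p)).isOpen_range
  have hmem : ∀ p, p ∈ U p := fun p => by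
    haveI : (RingHom.ker (ψ p)).IsPrime := RingHom.ker_isPrime _
    refine ⟨⟨RingHom.ker (ψ p), inferInstance⟩, PrimeSpectrum.ext ?_⟩
    show (RingHom.ker (ψ p)).comap (algebraMap A (B p)) = p.asIdeal
    rw [RingHom.comap_ker, hψ, RingHom.ker_comp_of_injective _ (RingHom.injective _),
      Ideal.ker_algebraMap_residueField]
  obtain ⟨T, hT⟩ := isCompact_univ.elim_finite_subcover U hU fun p _ => Set.mem_iUnion.mpr ⟨p, hmem p⟩
  refine ⟨T.card, fun t => B (T.equivFin.symm t).1, fun t => hB _, fun t => hA _, fun t => hE _, ?_,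
    fun t => hs _⟩
  intro p
  obtain ⟨x, hx, q, hq⟩ := Set.mem_iUnion₂.mp (hT (Set.mem_univ p))
  obtain ⟨t, ht⟩ : ∃ t, (T.equivFin.symm t).1 = x := ⟨T.equivFin ⟨x, hx⟩, by simp⟩
  subst ht
  exact ⟨t, q, congrArg PrimeSpectrum.asIdeal hq⟩

end

end Groth.Agent.QSplit
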