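import Groth.Agent.QFormLib.Azumaya
import Groth.Agent.QFormLib.EvenHomog
import Groth.Agent.AzumayaX.Basic
import Mathlib.RingTheory.Etale.StandardEtale
import Mathlib.RingTheory.Unramified.Finite
import Mathlib.RingTheory.Flat.LocallyFree

/-!
# The even Clifford algebra of a regular form of even rank over its centre
-/

universe u v

namespace Groth.Agent.QSplit

noncomputable section

open CliffordAlgebra Groth.Agent.QFormLib MulOpposite
open scoped TensorProduct

variable {R : Type u} [CommRing R] {M : Type v} [AddCommGroup M] [Module R M] {n : ℕ}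
  (b : Module.Basis (Fin n) R M) (Q : QuadraticForm R M) {m : ℕ} (hn : n = 2 * m) (hQ : QuadGrp.IsRegular Q)
  (hm : 0 < m)

/-- The rank of an endomorphism module is the square of the rank. -/
theorem finrank_fiber_end {S : Type*} [CommRing S] (P : Type*) [AddCommGroup P] [Module S P]
    [Module.Finite S P] [Module.Projective S P] (I : Ideal S) [I.IsPrime] :
    Module.finrank I.ResidueField (I.Fiber (Module.End S P)) =
      Module.finrank I.ResidueField (I.Fiber P) * Module.finrank I.ResidueField (I.Fiber P) :=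
  (LinearEquiv.ofBijective _ (AzumayaX.homBC_bijective (R := S) I.ResidueField P P)).finrank_eq.trans
    (Module.finrank_linearMap _ _ _ _)

theorem aeval_quadratic {S : Type*} [CommRing S] [Algebra R S] (z : S) (p q : R)
    (hz : z * z = p • z + algebraMap R S q) :
    Polynomial.aeval z (Polynomial.X ^ 2 + (Polynomial.C (-p) * Polynomial.X + Polynomial.C (-q))) = 0 := by
  simp only [map_add, map_mul, map_pow, Polynomial.aeval_X, Polynomial.aeval_C, map_neg, sq, hz, Algebra.smul_def]
  ring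

/-- The centre of the even part. -/
abbrev Zc : Subalgebra R ↥(CliffordAlgebra.even Q) := Subalgebra.center R ↥(CliffordAlgebra.even Q)

/-- The generator of the centre of the even part. -/
def zeta : ↥(Zc Q) :=
  ⟨⟨zEl b Q hn, zEl_mem b Q hn⟩,
    Subalgebra.mem_center_iff.mpr fun y => Subtype.ext (zEl_comm_even b Q hn y.2).symm⟩

theorem coe_zeta : (((zeta b Q hn : ↥(Zc Q)) : ↥(CliffordAlgebra.even Q)) : CliffordAlgebra Q) = zEl b Q hn :=
  rfl

include hn hQ hm in
theorem linearIndependent_zeta : LinearIndependent R ![(1 : ↥(Zc Q)), zeta b Q hn] := by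
  rw [LinearIndependent.pair_iff]
  intro s t h
  have h' := congrArg (fun c : ↥(Zc Q) => ((c : ↥(CliffordAlgebra.even Q)) : CliffordAlgebra Q)) h
  simp only [Subalgebra.coe_add, Subalgebra.coe_smul, Subalgebra.coe_one, coe_zeta, Subalgebra.coe_zero,
    ← Algebra.algebraMap_eq_smul_one] at h'
  exact zEl_indep b Q hn hQ hm h'

include hn hQ hm in
theorem span_zeta : ⊤ ≤ Submodule.span R (Set.range ![(1 : ↥(Zc Q)), zeta b Q hn]) := by
  intro c _
  obtain ⟨a, r, hc⟩ := exists_of_comm_pairs b Q hn hQ hm (x := ((c : ↥(CliffordAlgebra.even Q)) : CliffordAlgebra Q))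
    c.1.2 fun v w => (congrArg Subtype.val (Subalgebra.mem_center_iff.mp c.2
      ⟨ι Q v * ι Q w, ι_mul_ι_mem_evenOdd_zero Q v w⟩)).symm
  have : c = a • (1 : ↥(Zc Q)) + r • zeta b Q hn := by
    refine Subtype.ext (Subtype.ext ?_)
    rw [hc, Algebra.algebraMap_eq_smul_one]
    rfl
  rw [this]
  exact Submodule.add_mem _ (Submodule.smul_mem _ _ (Submodule.subset_span ⟨0, rfl⟩))
    (Submodule.smul_mem _ _ (Submodule.subset_span ⟨1, rfl⟩))

/-- The basis `1, ζ` of the centre. -/
def zBasis : Module.Basis (Fin 2) R ↥(Zc Q) :=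
  Module.Basis.mk (linearIndependent_zeta b Q hn hQ hm) (span_zeta b Q hn hQ hm)

include b hn hQ hm in
theorem free_center : Module.Free R ↥(Zc Q) := Module.Free.of_basis (zBasis b Q hn hQ hm)

include b hn hQ hm in
theorem finite_center : Module.Finite R ↥(Zc Q) := Module.Finite.of_basis (zBasis b Q hn hQ hm)

include b hn hQ hm in
theorem etale_center : Algebra.Etale R ↥(Zc Q) := by
  obtain ⟨q, hq, hD⟩ := exists_zEl_sq b Q hn
  set p := pEl b Q hn with hp
  obtain ⟨D, hD'⟩ : IsUnit (p * p + 4 * q) := by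
    rw [← hD]
    exact ((isUnit_neg_one (α := R)).pow m).mul (isUnit_det_polMat b Q hQ)
  let W : StandardEtalePair R :=
    { f := Polynomial.X ^ 2 + (Polynomial.C (-p) * Polynomial.X + Polynomial.C (-q))
      monic_f := Polynomial.monic_X_pow_add (lt_of_le_of_lt Polynomial.degree_linear_le (by decide))
      g := 1
      cond := by
        refine ⟨Polynomial.derivative (Polynomial.X ^ 2 + (Polynomial.C (-p) * Polynomial.X + Polynomial.C (-q))) *
          Polynomial.C (↑D⁻¹ : R), -Polynomial.C (4 * (↑D⁻¹ : R)), 1, ?_⟩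
        have h1 : Polynomial.C (p * p + 4 * q) * Polynomial.C (↑D⁻¹ : R) = 1 := by
          rw [← map_mul, ← hD', Units.mul_inv, map_one]
        simp only [Polynomial.derivative_add, Polynomial.derivative_X_pow, Polynomial.derivative_mul,
          Polynomial.derivative_C, Polynomial.derivative_X, map_mul, map_add, map_neg, map_ofNat, Nat.cast_ofNat]
          at h1 ⊢
        linear_combination h1 }
  have hz : zeta b Q hn * zeta b Q hn = p • zeta b Q hn + algebraMap R _ q := Subtype.ext (Subtype.ext hq)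
  have hroot : W.HasMap (zeta b Q hn) := by
    refine ⟨?_, by simp [W]⟩
    exact aeval_quadratic _ p q hz
  let F : W.Ring →ₐ[R] ↥(Zc Q) := W.lift _ hroot
  let g : ↥(Zc Q) →ₗ[R] W.Ring := (zBasis b Q hn hQ hm).constr R ![1, W.X]
  have hg1 : g 1 = 1 := by
    have := (zBasis b Q hn hQ hm).constr_basis R ![(1 : W.Ring), W.X] 0
    simpa [g, zBasis] using this
  have hgz : g (zeta b Q hn) = W.X := by
    have := (zBasis b Q hn hQ hm).constr_basis R ![(1 : W.Ring), W.X] 1
    simpa [g, zBasis] using this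
  have hX : W.X * W.X = p • W.X + algebraMap R W.Ring q := by
    have h := (StandardEtalePair.hasMap_X (P := W)).1
    simp only [W, map_add, map_mul, map_pow, Polynomial.aeval_X, Polynomial.aeval_C, map_neg] at h
    rw [Algebra.smul_def]
    linear_combination h
  let G : ↥(Zc Q) →ₐ[R] W.Ring := AlgHom.ofLinearMap g hg1 <| by
    have h : (LinearMap.mul R ↥(Zc Q)).compr₂ g = (LinearMap.mul R W.Ring).compl₁₂ g g := by
      refine (zBasis b Q hn hQ hm).ext fun i => (zBasis b Q hn hQ hm).ext fun j => ?_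
      fin_cases i <;> fin_cases j <;>
        simp [zBasis, hg1, hgz, hz, hX, Algebra.algebraMap_eq_smul_one]
    exact fun x y => LinearMap.congr_fun₂ h x y
  have hGF : G.comp F = AlgHom.id R W.Ring := by
    refine W.hom_ext ?_
    show g (W.lift _ hroot W.X) = W.X
    rw [StandardEtalePair.lift_X, hgz]
  have hFG : F.comp G = AlgHom.id R ↥(Zc Q) := by
    refine AlgHom.toLinearMap_injective ((zBasis b Q hn hQ hm).ext fun i => ?_)
    fin_cases i
    · simp [zBasis, G, hg1]
    · show F (g (zBasis b Q hn hQ hm 1)) = zBasis b Q hn hQ hm 1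
      simp only [zBasis, Module.Basis.mk_apply, Matrix.cons_val_one, Matrix.cons_val_fin_one, hgz]
      exact W.lift_X _ hroot
  exact Algebra.Etale.of_equiv (AlgEquiv.ofAlgHom F G hFG hGF)

/-- The projection onto the even part along the odd part. -/
def proj0 : CliffordAlgebra Q →ₗ[R] ↥(CliffordAlgebra.even Q) :=
  Submodule.projectionOnto _ _ (evenOdd_isCompl Q)

theorem proj0_even {x : CliffordAlgebra Q} (hx : x ∈ evenOdd Q 0) : (proj0 Q x : CliffordAlgebra Q) = x :=
  congrArg Subtype.val (Submodule.linearProjOfIsCompl_apply_left (evenOdd_isCompl Q) ⟨x, hx⟩)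

theorem proj0_odd {x : CliffordAlgebra Q} (hx : x ∈ evenOdd Q 1) : proj0 Q x = 0 :=
  Submodule.linearProjOfIsCompl_apply_right (evenOdd_isCompl Q) ⟨x, hx⟩

section Base

variable {Z : Type*} [CommRing Z] [Algebra R Z] [Algebra Z ↥(CliffordAlgebra.even Q)]
  [IsScalarTower R Z ↥(CliffordAlgebra.even Q)] (ζ : Z)
  (hζ : ∀ x : ↥(CliffordAlgebra.even Q),
    ((ζ • x : ↥(CliffordAlgebra.even Q)) : CliffordAlgebra Q) = zEl b Q hn * x)

variable (Z) in
/-- The sandwich map of the even part over a base. -/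
abbrev sandwich0 : ↥(CliffordAlgebra.even Q) ⊗[Z] (↥(CliffordAlgebra.even Q))ᵐᵒᵖ →ₐ[Z]
    Module.End Z ↥(CliffordAlgebra.even Q) :=
  AlgHom.mulLeftRight Z ↥(CliffordAlgebra.even Q)

include b hn hQ hζ in
/-- Even endomorphisms coming from the sandwich map of the whole Clifford algebra. -/
theorem exists_even_decomp (t : CliffordAlgebra Q ⊗[R] (CliffordAlgebra Q)ᵐᵒᵖ) :
    ∃ (t0 : ↥(CliffordAlgebra.even Q) ⊗[Z] (↥(CliffordAlgebra.even Q))ᵐᵒᵖ)
      (G : ↥(CliffordAlgebra.even Q) → CliffordAlgebra Q),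
      (∀ x, G (ζ • x) = (algebraMap R _ (pEl b Q hn) - zEl b Q hn) * G x) ∧
      ∀ x : ↥(CliffordAlgebra.even Q), (proj0 Q (sandwich Q t x) : CliffordAlgebra Q) =
        (sandwich0 Q Z t0 x : CliffordAlgebra Q) + G x := by
  induction t using TensorProduct.induction_on with
  | zero => exact ⟨0, 0, fun x => by simp, fun x => by simp⟩
  | add s t hs ht =>
    obtain ⟨s0, G, hG, hs⟩ := hs
    obtain ⟨t0, H, hH, ht⟩ := ht
    refine ⟨s0 + t0, G + H, fun x => by simp [hG, hH, mul_add], fun x => ?_⟩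
    simp only [map_add, LinearMap.add_apply, Subalgebra.coe_add, Pi.add_apply]
    rw [show ((proj0 Q (sandwich Q s x) : CliffordAlgebra Q) + (proj0 Q (sandwich Q t x) : CliffordAlgebra Q)) = _
      from congrArg₂ (· + ·) (hs x) (ht x)]
    abel
  | tmul a c =>
    obtain ⟨a0, ha0, a1, ha1, rfl⟩ := exists_even_odd_decomp Q a
    obtain ⟨c0, hc0, c1, hc1, hc⟩ := exists_even_odd_decomp Q c.unop
    refine ⟨(⟨a0, ha0⟩ : ↥(CliffordAlgebra.even Q)) ⊗ₜ op ⟨c0, hc0⟩,
      fun x => a1 * x * c1, fun x => ?_, fun x => ?_⟩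
    · beta_reduce
      rw [hζ, ← mul_assoc a1, zEl_comm_odd b Q hn ha1]
      simp only [mul_assoc]
    · have h1 : ∀ {y z : CliffordAlgebra Q}, y ∈ evenOdd Q 0 → z ∈ evenOdd Q 1 → y * z ∈ evenOdd Q 1 :=
        fun hy hz => zero_add (1 : ZMod 2) ▸ SetLike.mul_mem_graded hy hz
      have h2 : ∀ {y z : CliffordAlgebra Q}, y ∈ evenOdd Q 1 → z ∈ evenOdd Q 0 → y * z ∈ evenOdd Q 1 :=
        fun hy hz => add_zero (1 : ZMod 2) ▸ SetLike.mul_mem_graded hy hz
      have h0 : ∀ {y z : CliffordAlgebra Q}, y ∈ evenOdd Q 0 → z ∈ evenOdd Q 0 → y * z ∈ evenOdd Q 0 :=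
        fun hy hz => add_zero (0 : ZMod 2) ▸ SetLike.mul_mem_graded hy hz
      rw [sandwich, AlgHom.mulLeftRight_apply, sandwich0, AlgHom.mulLeftRight_apply, hc]
      rw [show (a0 + a1) * (x : CliffordAlgebra Q) * (c0 + c1) =
          (a0 * x * c0 + a1 * x * c1) + (a0 * x * c1 + a1 * x * c0) by noncomm_ring, map_add,
        proj0_odd Q (Submodule.add_mem _ (h1 (h0 ha0 x.2) hc1) (h2 (h2 ha1 x.2) hc0)), add_zero,
        proj0_even Q (Submodule.add_mem _ (h0 (h0 ha0 x.2) hc0) (mul_mem_zero_of_odd Q (h2 ha1 x.2) hc1))]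
      rfl

include b hn hQ hζ in
theorem sandwich0_surjective : Function.Surjective (sandwich0 Q Z) := by
  intro f
  obtain ⟨t, ht⟩ := (sandwich_bijective b Q hn hQ).2
    ((CliffordAlgebra.even Q).val.toLinearMap ∘ₗ f.restrictScalars R ∘ₗ proj0 Q)
  obtain ⟨t0, G, hG, h⟩ := exists_even_decomp b Q hn hQ ζ hζ t
  have hf : ∀ x : ↥(CliffordAlgebra.even Q), (f x : CliffordAlgebra Q) = (sandwich0 Q Z t0 x : CliffordAlgebra Q) + G x := by
    intro x
    rw [← h x, ht]
    simp only [LinearMap.comp_apply, AlgHom.toLinearMap_apply, Subalgebra.val_apply, LinearMap.restrictScalars_apply]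
    rw [show proj0 Q (x : CliffordAlgebra Q) = x from Subtype.ext (proj0_even Q x.2), proj0_even Q (f x).2]
  have hG0 : ∀ x, G x = 0 := by
    intro x
    have h1 := hf (ζ • x)
    rw [map_smul, map_smul, hζ, hζ, hf x, mul_add, hG, add_right_inj] at h1
    have h2 : wEl b Q * G x = 0 := by
      rw [wEl_eq b Q hn, two_smul, sub_mul, add_mul]
      rw [sub_mul] at h1
      nth_rw 1 [h1]
      abel
    exact (isUnit_wEl b Q hn hQ).mul_right_eq_zero.mp h2
  exact ⟨t0, LinearMap.ext fun x => Subtype.ext (by rw [hf x, hG0, add_zero])⟩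

include b in
theorem finite_even : Module.Finite R ↥(CliffordAlgebra.even Q) := by
  haveI := finite_clifford b Q
  exact Module.Finite.of_surjective (proj0 Q) fun x => ⟨x, Subtype.ext (proj0_even Q x.2)⟩

include b in
theorem projective_even : Module.Projective R ↥(CliffordAlgebra.even Q) := by
  haveI := free_clifford b Q
  exact Module.Projective.of_split (CliffordAlgebra.even Q).val.toLinearMap (proj0 Q)
    (LinearMap.ext fun x => Subtype.ext (proj0_even Q x.2))

include b hn hQ hζ in
theorem isAzumaya_of_etale [Algebra.Etale R Z] [FaithfulSMul Z ↥(CliffordAlgebra.even Q)] :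
    IsAzumaya Z ↥(CliffordAlgebra.even Q) := by
  haveI := finite_even b Q
  haveI := projective_even b Q
  haveI : Module.Finite Z ↥(CliffordAlgebra.even Q) := Module.Finite.of_restrictScalars_finite R _ _
  haveI : Module.Projective Z ↥(CliffordAlgebra.even Q) :=
    Algebra.FormallyUnramified.projective_of_restrictScalars R Z _
  haveI : Module.Finite Z (↥(CliffordAlgebra.even Q))ᵐᵒᵖ := Module.Finite.equiv (opLinearEquiv Z)
  haveI : Module.Projective Z (↥(CliffordAlgebra.even Q))ᵐᵒᵖ :=
    Module.Projective.of_equiv (opLinearEquiv Z)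
  haveI : Module.Finite Z (Module.End Z ↥(CliffordAlgebra.even Q)) :=
    Module.Finite.equiv (dualTensorHomEquiv Z ↥(CliffordAlgebra.even Q) ↥(CliffordAlgebra.even Q))
  haveI : Module.Projective Z (Module.End Z ↥(CliffordAlgebra.even Q)) :=
    Module.Projective.of_equiv (dualTensorHomEquiv Z ↥(CliffordAlgebra.even Q) ↥(CliffordAlgebra.even Q))
  refine { bij := ?_ }
  refine Module.bijective_of_surjective_of_rankAtStalk_eq (φ := (sandwich0 Q Z).toLinearMap)
    (sandwich0_surjective b Q hn hQ ζ hζ) fun P _ => ?_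
  rw [Module.rankAtStalk_tensorProduct, Pi.mul_apply,
    Module.rankAtStalk_eq_of_equiv (opLinearEquiv Z).symm (M := (↥(CliffordAlgebra.even Q))ᵐᵒᵖ),
    Module.rankAtStalk_eq, Module.rankAtStalk_eq]
  exact (finrank_fiber_end (↥(CliffordAlgebra.even Q)) _).symm

end Base

end

end Groth.Agent.QSplit
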